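import Groth.Agent.VanQC.Cech
import Groth.Agent.ModShf.GrothAb
import Groth.Agent.LimLib.FGSub
import Groth.Agent.LimLib.Proper
import Groth.Agent.LimTop.Basic
import Groth.Agent.FormalFun.Components
import Groth.Agent.S2079
import Groth.Agent.S9777
import Groth.Agent.S0403

/-!
# Čech models with vanishing above the dimension of a fibre
-/

set_option autoImplicit false

universe u

open CategoryTheory Limits Opposite TopologicalSpace AlgebraicGeometry

namespace Groth.Agent.VanQC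

open Groth.Agent.CohAff (inter)

/-- A proper scheme over an affine base is closed in a proper one of finite presentation with the
same points over a given point. -/
theorem exists_fp_over {X S : Scheme.{u}} (f : X ⟶ S) [IsProper f] [IsAffine S] (y : S) :
    ∃ (X₁ : Scheme.{u}) (i : X ⟶ X₁) (f₁ : X₁ ⟶ S), IsClosedImmersion i ∧ IsProper f₁ ∧
      LocallyOfFinitePresentation f₁ ∧ i ≫ f₁ = f ∧ ∀ p : X₁, f₁ p = y → p ∈ Set.range i := by
  obtain ⟨I, _, _, D, c, hc, e, hD, hπ⟩ := Groth.Agent.S2079.result f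
  haveI : ∀ (i j : I) (a : i ⟶ j), IsAffineHom ((D ⋙ Over.forget S).map a) := fun i j a => by
    haveI := hD i j a
    show IsAffineHom (D.map a).left
    infer_instance
  have hc' := isLimitOfPreserves (Over.forget S) hc
  obtain ⟨i₀⟩ : Nonempty I := IsCofiltered.nonempty
  haveI : IsProper (D.obj i₀).hom := (hπ i₀).2.1
  haveI : LocallyOfFiniteType ((D.obj i₀).hom.fiberToSpecResidueField y) :=
    inferInstanceAs (LocallyOfFiniteType (pullback.snd (D.obj i₀).hom (S.fromSpecResidueField y)))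
  haveI : QuasiCompact ((D.obj i₀).hom.fiberToSpecResidueField y) :=
    inferInstanceAs (QuasiCompact (pullback.snd (D.obj i₀).hom (S.fromSpecResidueField y)))
  haveI : IsLocallyNoetherian ((D.obj i₀).hom.fiber y) :=
    LocallyOfFiniteType.isLocallyNoetherian ((D.obj i₀).hom.fiberToSpecResidueField y)
  haveI : CompactSpace ↥((D.obj i₀).hom.fiber y) :=
    QuasiCompact.compactSpace_of_compactSpace ((D.obj i₀).hom.fiberToSpecResidueField y)
  haveI : IsNoetherian ((D.obj i₀).hom.fiber y) := { }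
  haveI : NoetherianSpace ↥((D.obj i₀).hom ⁻¹' {y}) :=
    ((D.obj i₀).hom.fiberHomeo y).symm.isInducing.noetherianSpace
  let C : (Σ k, k ⟶ i₀) → Closeds ↥((D.obj i₀).hom ⁻¹' {y}) := fun a =>
    haveI := hD _ _ a.2
    ⟨Subtype.val ⁻¹' Set.range (D.map a.2).left,
      ((D.map a.2).left.isClosedMap.isClosed_range).preimage continuous_subtype_val⟩
  obtain ⟨T, ⟨⟨k, φ⟩, rfl⟩, hmin⟩ := WellFounded.has_min (r := (· < ·)) wellFounded_lt (Set.range C)
    ⟨_, ⟨i₀, 𝟙 i₀⟩, rfl⟩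
  haveI := hπ k
  let ik : X ⟶ (D.obj k).left := e.inv.left ≫ (c.π.app k).left
  haveI : IsClosedImmersion (c.π.app k).left := (hπ k).1
  haveI : IsIso e.inv.left := inferInstanceAs (IsIso ((Over.forget S).map e.inv))
  haveI : IsClosedImmersion ik := inferInstanceAs (IsClosedImmersion (e.inv.left ≫ (c.π.app k).left))
  refine ⟨_, ik, (D.obj k).hom, inferInstance, (hπ k).2.1, (hπ k).2.2, ?_, fun p hp => ?_⟩
  · show (e.inv.left ≫ (c.π.app k).left) ≫ (D.obj k).hom = f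
    have w1 : (c.π.app k).left ≫ (D.obj k).hom = c.pt.hom := Over.w (c.π.app k)
    rw [Category.assoc, w1]
    exact Over.w e.inv
  haveI : IsClosedImmersion (D.map φ).left := hD _ _ φ
  have hq : (D.obj i₀).hom ((D.map φ).left p) = y := by
    rw [← Scheme.Hom.comp_apply, Over.w]
    exact hp
  have hmem : p ∈ Set.range ((Over.forget S).mapCone c |>.π.app k) := by
    refine (LimTop.mem_range_π_iff hc' p).mpr fun j a => ?_
    have hle : C ⟨j, a ≫ φ⟩ ≤ C ⟨k, φ⟩ := by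
      rintro q ⟨x, hx⟩
      refine ⟨(D.map a).left x, ?_⟩
      rw [← hx]
      show _ = (D.map (a ≫ φ)).left x
      rw [D.map_comp, Over.comp_left, Scheme.Hom.comp_apply]
    have heq : C ⟨k, φ⟩ ≤ C ⟨j, a ≫ φ⟩ := by
      by_contra hn
      exact hmin _ ⟨_, rfl⟩ (lt_of_le_not_ge hle hn)
    obtain ⟨x, hx⟩ := heq (show (⟨(D.map φ).left p, hq⟩ : ↥((D.obj i₀).hom ⁻¹' {y})) ∈ C ⟨k, φ⟩ from ⟨p, rfl⟩)
    refine ⟨x, (D.map φ).left.isClosedEmbedding.injective ?_⟩
    refine Eq.trans ?_ hx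
    show (D.map φ).left ((D.map a).left x) = (D.map (a ≫ φ)).left x
    rw [D.map_comp, Over.comp_left, Scheme.Hom.comp_apply]
  obtain ⟨x, hx⟩ := hmem
  refine ⟨e.hom.left x, ?_⟩
  show (e.inv.left ≫ (c.π.app k).left) (e.hom.left x) = p
  refine Eq.trans ?_ hx
  have w2 : e.hom.left ≫ e.inv.left = 𝟙 c.pt.left := by
    rw [← Over.comp_left, e.hom_inv_id]
    rfl
  exact congrArg (c.π.app k).left (congrArg (fun g : c.pt.left ⟶ c.pt.left => g x) w2)

/-- Restricting to an open, the fibres do not change. -/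
theorem dim_fiber_restrict {X S : Scheme.{u}} (f : X ⟶ S) [IsProper f] (V : S.Opens) (y : V.toScheme) :
    topologicalKrullDim ↥((f ∣_ V).fiber y) = topologicalKrullDim ↥(f.fiber (V.ι y)) :=
  Groth.Agent.S9777.result f V.ι (f ∣_ V) (f ⁻¹ᵁ V).ι (isPullback_morphismRestrict f V).flip y

/-- Near a point, `f` maps affinely to a noetherian proper model with small fibres. -/
theorem exists_noeth_model {X Y : Scheme.{u}} (f : X ⟶ Y) [IsProper f] [IsAffine Y] (y : Y) (d : ℕ)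
    (hd : topologicalKrullDim ↥(f.fiber y) ≤ d) :
    ∃ V : Y.Opens, IsAffineOpen V ∧ y ∈ V ∧ ∃ (X₀ Y₀ : Scheme.{u}) (f₀ : X₀ ⟶ Y₀),
      IsAffine Y₀ ∧ IsNoetherian Y₀ ∧ IsProper f₀ ∧
      (∀ z, topologicalKrullDim ↥(f₀.fiber z) ≤ d) ∧
      ∃ h : (f ⁻¹ᵁ V).toScheme ⟶ X₀, IsAffineHom h := by
  obtain ⟨X₁, i, f₁, hi, hf₁, hfp, hif, hpts⟩ := exists_fp_over f y
  haveI := hi; haveI := hf₁; haveI := hfp
  have hd₁ : topologicalKrullDim ↥(f₁.fiber y) ≤ d := by
    let m : (f ⁻¹' {y} : Set X) → (f₁ ⁻¹' {y} : Set X₁) := Set.codRestrict (fun x => i x.1) _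
      fun x => by
        show f₁ (i x.1) = y
        rw [← Scheme.Hom.comp_apply, hif]
        exact x.2
    have hm : IsHomeomorph m := isHomeomorph_iff_isEmbedding_surjective.mpr
      ⟨(i.isEmbedding.comp Topology.IsEmbedding.subtypeVal).codRestrict _ _, fun p => by
        obtain ⟨x, hx⟩ := hpts p.1 p.2
        have hxy : f x = y := by rw [← hif, Scheme.Hom.comp_apply, hx]; exact p.2
        exact ⟨⟨x, hxy⟩, Subtype.ext hx⟩⟩
    rw [(f₁.fiberHomeo y).isHomeomorph.topologicalKrullDim_eq, ← hm.topologicalKrullDim_eq,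
      ← (f.fiberHomeo y).isHomeomorph.topologicalKrullDim_eq]
    exact hd
  let A := Γ(Y, ⊤)
  letI : Algebra (ULift.{u} ℤ) A := ((Int.castRingHom A).comp ULift.ringEquiv.toRingHom).toAlgebra
  let f₂ : X₁ ⟶ Spec (CommRingCat.of A) := f₁ ≫ Y.isoSpec.hom
  haveI : IsProper f₂ := inferInstanceAs (IsProper (f₁ ≫ Y.isoSpec.hom))
  haveI : LocallyOfFinitePresentation f₂ :=
    inferInstanceAs (LocallyOfFinitePresentation (f₁ ≫ Y.isoSpec.hom))
  haveI : CompactSpace X₁ := QuasiCompact.compactSpace_of_compactSpace f₁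
  haveI : QuasiSeparatedSpace X₁ := quasiSeparatedSpace_of_quasiSeparated f₁
  let c := LimLib.fgCone (ULift.{u} ℤ) A
  haveI : @LocallyOfFinitePresentation X₁ c.pt f₂ := ‹LocallyOfFinitePresentation f₂›
  haveI : @IsProper X₁ c.pt f₂ := ‹IsProper f₂›
  obtain ⟨s, X₂, g₂, q₂, h₁, h₂, h₃, h⟩ := LimLib.hasModel (LimLib.isLimitFgCone (ULift.{u} ℤ) A) (X := X₁) f₂
  haveI := h₁; haveI := h₂; haveI := h₃
  obtain ⟨j, φ, hj⟩ := LimLib.descends_isProper (LimLib.fgDiagram (ULift.{u} ℤ) A) c (LimLib.isLimitFgCone (ULift.{u} ℤ) A)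
    (fun _ _ _ => inferInstance) (fun _ => inferInstance) (fun _ => inferInstance) s X₂ g₂ h₂ h₃
    inferInstance X₁ q₂ f₂ h inferInstance
  obtain ⟨-, -, -, hsq⟩ := LimLib.HasModel.at_finer (c := c) (f := f₂) (g := q₂) h₁ h₂ h₃ h φ
  let Xj := pullback g₂ ((LimLib.fgDiagram (ULift.{u} ℤ) A).map φ)
  let fj : Xj ⟶ (LimLib.fgDiagram (ULift.{u} ℤ) A).obj j := pullback.snd _ _
  haveI : IsProper fj := hj
  let τ : Y ⟶ (LimLib.fgDiagram (ULift.{u} ℤ) A).obj j := Y.isoSpec.hom ≫ c.π.app j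
  haveI : IsNoetherianRing (Algebra.adjoin (ULift.{u} ℤ) (j.unop : Set A)) := by
    haveI : IsNoetherianRing (ULift.{u} ℤ) := isNoetherianRing_of_ringEquiv ℤ ULift.ringEquiv.symm
    haveI : Algebra.FiniteType (ULift.{u} ℤ) (Algebra.adjoin (ULift.{u} ℤ) (j.unop : Set A)) :=
      (Subalgebra.fg_iff_finiteType _).mp ⟨j.unop, rfl⟩
    exact Algebra.FiniteType.isNoetherianRing (ULift.{u} ℤ) _
  haveI : IsNoetherian ((LimLib.fgDiagram (ULift.{u} ℤ) A).obj j) :=
    inferInstanceAs (IsNoetherian (Spec (CommRingCat.of (Algebra.adjoin (ULift.{u} ℤ) (j.unop : Set A)))))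
  -- the square over `Y`
  obtain ⟨kj, hpb⟩ : ∃ kj : X₁ ⟶ Xj, IsPullback kj f₁ fj τ :=
    ⟨_, hsq.of_iso (Iso.refl _) (Iso.refl _) Y.isoSpec.symm (Iso.refl _)
      ((Category.comp_id _).trans (Category.id_comp _).symm)
      ((Category.assoc _ _ _).trans ((congrArg (f₁ ≫ ·) Y.isoSpec.hom_inv_id).trans
        ((Category.comp_id _).trans (Category.id_comp _).symm)))
      ((Category.comp_id _).trans (Category.id_comp _).symm)
      ((Category.comp_id _).trans (Y.isoSpec.inv_hom_id_assoc _).symm)⟩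
  haveI : IsAffineHom τ := inferInstance
  haveI : IsAffineHom kj := MorphismProperty.of_isPullback hpb.flip ‹IsAffineHom τ›
  have hy₀ : topologicalKrullDim ↥(fj.fiber (τ y)) ≤ d :=
    (Groth.Agent.S9777.result fj τ f₁ kj hpb y).symm.trans_le hd₁
  obtain ⟨_, ⟨V₀, hV₀, rfl⟩, hyV₀, hle⟩ :=
    ((LimLib.fgDiagram (ULift.{u} ℤ) A).obj j).isBasis_affineOpens.exists_subset_of_mem_open
      (show τ y ∈ {z | topologicalKrullDim ↥(fj.fiber z) ≤ d} from hy₀)
      (Groth.Agent.S0403.result fj d)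
  refine ⟨τ ⁻¹ᵁ V₀, hV₀.preimage τ, hyV₀, (fj ⁻¹ᵁ V₀).toScheme, Scheme.Opens.toScheme V₀, fj ∣_ V₀, hV₀,
    ?_, inferInstance, fun z => ?_, ?_⟩
  · haveI : IsAffine (Scheme.Opens.toScheme V₀) := hV₀
    haveI : IsLocallyNoetherian (Scheme.Opens.toScheme V₀) :=
      LocallyOfFiniteType.isLocallyNoetherian (Scheme.Opens.ι V₀)
    exact { }
  · rw [dim_fiber_restrict]
    exact hle z.2
  · let k : X ⟶ Xj := i ≫ kj
    haveI : IsAffineHom k := inferInstanceAs (IsAffineHom (i ≫ kj))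
    have hk : k ≫ fj = f ≫ τ := by
      show (i ≫ kj) ≫ fj = f ≫ τ
      rw [Category.assoc, hpb.w, ← Category.assoc, hif]
    have key : ∀ O : X.Opens, O = k ⁻¹ᵁ (fj ⁻¹ᵁ V₀) →
        ∃ h : O.toScheme ⟶ (fj ⁻¹ᵁ V₀).toScheme, IsAffineHom h := by
      rintro O rfl
      exact ⟨k ∣_ (fj ⁻¹ᵁ V₀), MorphismProperty.of_isPullback (isPullback_morphismRestrict k _).flip ‹IsAffineHom k›⟩
    exact key _ (by rw [← Scheme.Hom.comp_preimage, ← Scheme.Hom.comp_preimage, hk])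

/-- The sections of a higher direct image vanish with its stalks. -/
theorem subsingleton_rpush_sections {X S : Scheme.{u}} (f : X ⟶ S) (M : X.Modules) (p : ℕ) (V : S.Opens)
    (h : ∀ y ∈ V, IsZero (TopCat.Presheaf.stalk ((Coh.RpushAb f p).obj (Coh.toAb M)).obj y)) :
    Subsingleton Γ((Coh.Rpush f p).obj M, V) := by
  haveI := subsingleton_sections ((Coh.RpushAb f p).obj (Coh.toAb M)) V fun y hy =>
    AddCommGrpCat.subsingleton_of_isZero (h y hy)
  haveI : Subsingleton (((sheafToPresheaf (Opens.grothendieckTopology S) AddCommGrpCat).obj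
      ((ModShf.toAbFunctor X ⋙ Coh.RpushAb f p).obj M)).obj (op V)) := this
  exact ((((sheafToPresheaf _ _).mapIso ((ModShf.rpushCompToAb f p).app M)).app
    (op V)).addCommGroupIsoToAddEquiv).toEquiv.subsingleton

/-- Restriction over a smaller affine is affine. -/
theorem isAffineHom_homOfLE_preimage {X Y : Scheme.{u}} (f : X ⟶ Y) {W V : Y.Opens}
    (hW : IsAffineOpen W) (hV : IsAffineOpen V) (e : W ≤ V) :
    IsAffineHom (X.homOfLE (f.preimage_mono e)) := by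
  haveI : IsAffine W.toScheme := hW
  haveI : IsAffine V.toScheme := hV
  have hcomm : X.homOfLE (f.preimage_mono e) ≫ (f ∣_ V) = (f ∣_ W) ≫ Y.homOfLE e := by
    rw [← cancel_mono V.ι, Category.assoc, Category.assoc, morphismRestrict_ι, Scheme.homOfLE_ι,
      morphismRestrict_ι, Scheme.homOfLE_ι_assoc]
  have hpb : IsPullback (X.homOfLE (f.preimage_mono e)) (f ∣_ W) (f ∣_ V) (Y.homOfLE e) :=
    IsPullback.of_right (h₁₂ := (f ⁻¹ᵁ V).ι) (h₂₂ := V.ι) (v₁₃ := f)
      (by rw [Scheme.homOfLE_ι, Scheme.homOfLE_ι]; exact (isPullback_morphismRestrict f W).flip)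
      hcomm (isPullback_morphismRestrict f V).flip
  exact MorphismProperty.of_isPullback hpb.flip (inferInstance : IsAffineHom (Y.homOfLE e))

/-- Near a point of small fibre dimension, the Čech complexes vanish above it. -/
theorem exists_van_of_isAffine {X Y : Scheme.{u}} (f : X ⟶ Y) [IsProper f] [IsAffine Y] (y : Y)
    (d : ℕ) (hd : topologicalKrullDim ↥(f.fiber y) ≤ d) :
    ∃ V : Y.Opens, IsAffineOpen V ∧ y ∈ V ∧ ∃ (X₀ : Scheme.{u}) (ι : Type u) (_ : Finite ι)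
      (U : ι → X₀.Opens), (⊤ ≤ ⨆ i, U i) ∧
      (∀ {n : ℕ} (x : Fin (n + 1) → ι), IsAffineOpen (inter (X := X₀.toPresheafedSpace.carrier) U x)) ∧
      Van U d ∧ ∃ h : (f ⁻¹ᵁ V).toScheme ⟶ X₀, IsAffineHom h := by
  obtain ⟨V, hV, hy, X₀, Y₀, f₀, hY₀, hN, hf₀, hdim, h⟩ := exists_noeth_model f y d hd
  haveI := hY₀; haveI := hN; haveI := hf₀
  obtain ⟨D⟩ := CBC.nonempty_model f₀ (isAffineOpen_top Y₀)
  haveI : IsLocallyNoetherian X₀ := LocallyOfFiniteType.isLocallyNoetherian f₀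
  haveI : CompactSpace X₀ := QuasiCompact.compactSpace_of_compactSpace f₀
  refine ⟨V, hV, hy, X₀, D.ι, D.fin, D.U, D.cov, D.aff, ?_, h⟩
  refine van_of_coh D.U D.aff d fun G hG n hn => ?_
  haveI : G.IsQuasicoherent := hG.1
  refine cechExact_of_subsingleton_rpush D G (isAffineOpen_top Y₀) n ?_
  exact subsingleton_rpush_sections f₀ G (n + 1) ⊤ fun z _ =>
    FormalVan.isZero_stalk_RpushAb f₀ z d (hdim z) G hG (n + 1) (Nat.lt_succ_of_le hn)

/-- Pulling the vanishing back along an affine map to a Čech model. -/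
theorem exists_model_of_affine {X Y : Scheme.{u}} (f : X ⟶ Y) {W : Y.Opens} {X₀ : Scheme.{u}}
    {ι : Type u} [Finite ι] (U : ι → X₀.Opens) (hcov : ⊤ ≤ ⨆ i, U i)
    (haff : ∀ {n : ℕ} (x : Fin (n + 1) → ι), IsAffineOpen (inter (X := X₀.toPresheafedSpace.carrier) U x))
    {d : ℕ} (hvan : Van U d) (h : (f ⁻¹ᵁ W).toScheme ⟶ X₀) [IsAffineHom h] :
    ∃ D : CBC.Model f W, Van D.U d := by
  refine ⟨{
    ι := ι
    fin := inferInstance
    U := pullFam (f ⁻¹ᵁ W) h U
    hU := fun i => ?_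
    cov := fun x hx => ?_
    aff := fun {n} x => isAffineOpen_inter_pullFam (f ⁻¹ᵁ W) h U haff x }, hvan.pull _ h U⟩
  · rintro _ ⟨p, -, rfl⟩
    exact p.2
  · obtain ⟨i, hi⟩ := Opens.mem_iSup.mp (hcov (Opens.mem_top (h ⟨x, hx⟩)))
    exact Opens.mem_iSup.mpr ⟨i, ⟨x, hx⟩, hi, rfl⟩

/-- Near a point of small fibre dimension, `f` maps affinely to a scheme with vanishing. -/
theorem exists_van_core {X Y : Scheme.{u}} (f : X ⟶ Y) [IsProper f] (y : Y) (d : ℕ)
    (hd : topologicalKrullDim ↥(f.fiber y) ≤ d) :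
    ∃ V : Y.Opens, IsAffineOpen V ∧ y ∈ V ∧ ∃ (X₀ : Scheme.{u}) (ι : Type u) (_ : Finite ι)
      (U : ι → X₀.Opens), (⊤ ≤ ⨆ i, U i) ∧
      (∀ {n : ℕ} (x : Fin (n + 1) → ι), IsAffineOpen (inter (X := X₀.toPresheafedSpace.carrier) U x)) ∧
      Van U d ∧ ∃ h : (f ⁻¹ᵁ V).toScheme ⟶ X₀, IsAffineHom h := by
  obtain ⟨V₁, hV₁, hy, -⟩ := exists_isAffineOpen_mem_and_subset (U := (⊤ : Y.Opens)) (Opens.mem_top y)
  haveI : IsAffine V₁.toScheme := hV₁
  obtain ⟨V', hV', hy', X₀, ι, _, U, hcov, haff, hvan, h, hh⟩ :=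
    exists_van_of_isAffine (f ∣_ V₁) ⟨y, hy⟩ d ((dim_fiber_restrict f V₁ _).trans_le hd)
  haveI := hh
  exact ⟨V₁.ι ''ᵁ V', hV'.image_of_isOpenImmersion V₁.ι, ⟨⟨y, hy⟩, hy', rfl⟩, X₀, ι, inferInstance, U,
    hcov, haff, hvan, (X.isoOfEq (image_morphismRestrict_preimage f V₁ V').symm).hom ≫
      (Scheme.Hom.isoImage (f ⁻¹ᵁ V₁).ι ((f ∣_ V₁) ⁻¹ᵁ V')).inv ≫ h, inferInstance⟩

/-- Near a point of small fibre dimension there are Čech models with vanishing above it. -/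
theorem exists_van {X Y : Scheme.{u}} (f : X ⟶ Y) [IsProper f] (y : Y) (d : ℕ)
    (hd : topologicalKrullDim ↥(f.fiber y) ≤ d) :
    ∃ V : Y.Opens, IsAffineOpen V ∧ y ∈ V ∧ ∀ W : Y.Opens, IsAffineOpen W → W ≤ V →
      ∃ D : CBC.Model f W, Van D.U d := by
  obtain ⟨V, hV, hy, X₀, ι, _, U, hcov, haff, hvan, h, hh⟩ := exists_van_core f y d hd
  haveI := hh
  refine ⟨V, hV, hy, fun W hW hle => ?_⟩
  haveI : IsAffineHom (X.homOfLE (f.preimage_mono hle)) := isAffineHom_homOfLE_preimage f hW hV hle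
  exact exists_model_of_affine f U hcov haff hvan (X.homOfLE (f.preimage_mono hle) ≫ h)

/-- The higher direct image on abelian sheaves has no sections over an affine with a vanishing model. -/
theorem subsingleton_rpushAb {X S : Scheme.{u}} {f : X ⟶ S} [IsSeparated f] [QuasiCompact f]
    {W : S.Opens} (hW : IsAffineOpen W) (D : CBC.Model f W) {d : ℕ} (hD : Van D.U d) (M : X.Modules)
    [M.IsQuasicoherent] {i : ℕ} (hi : d < i) :
    Subsingleton (((Coh.RpushAb f i).obj (Coh.toAb M)).obj.obj (op W)) := by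
  obtain ⟨n, rfl⟩ : ∃ n, i = n + 1 := ⟨i - 1, by omega⟩
  have := subsingleton_rpush D M hW n (hD M ‹_› n (by omega))
  haveI : Subsingleton (((sheafToPresheaf (Opens.grothendieckTopology S) AddCommGrpCat).obj
      ((Coh.Rpush f (n + 1) ⋙ ModShf.toAbFunctor S).obj M)).obj (op W)) := this
  exact ((((sheafToPresheaf _ _).mapIso ((ModShf.rpushCompToAb f (n + 1)).app M)).app
    (op W)).addCommGroupIsoToAddEquiv).symm.toEquiv.subsingleton

end Groth.Agent.VanQC
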