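import Groth.Agent.CBC.Rel
import Groth.Agent.CBC.Noeth
import Groth.Agent.QCohGen.Noeth
import Groth.Agent.QCohGen.Closed
import Groth.Agent.FormalVan.Basic

/-!
# Vanishing of Čech cohomology of quasi-coherent modules above a degree

* `Van U d`: the Čech complex on `U` of every quasi-coherent module is exact above degree `d`.
* `Van.pull`: it passes to opens mapping affinely.
* `van_of_coh`: on noetherian schemes it suffices to treat coherent modules.
-/

set_option autoImplicit false

universe u

open CategoryTheory Limits Opposite TopologicalSpace AlgebraicGeometry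

namespace Groth.Agent.VanQC

open Groth.Agent.CohAff (inter inter_le le_inter mem_inter Cochain cd cd_apply cd_cd cmap cd_cmap
  CechExact res_res res_app)

variable {X : Scheme.{u}}

/-- The Čech complex of every quasi-coherent module is exact in degrees above `d`. -/
def Van {ι : Type u} (U : ι → X.Opens) (d : ℕ) : Prop :=
  ∀ (M : X.Modules), M.IsQuasicoherent → ∀ n, d ≤ n → CechExact M.presheaf U n

/-- Exactness only depends on the values on the intersections. -/
theorem cechExact_of_functor {S T : TopCat.{u}} (G : Opens S ⥤ Opens T)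
    (P : TopCat.Presheaf AddCommGrpCat.{u} T) {ι : Type u} (U : ι → Opens S) (V : ι → Opens T)
    (e : ∀ (m : ℕ) (x : Fin (m + 1) → ι), G.obj (inter U x) = inter V x) {n : ℕ}
    (h : CechExact (G.op ⋙ P) U n) : CechExact P V n := by
  let E : ∀ (m : ℕ) (x : Fin (m + 1) → ι),
      (G.op ⋙ P).obj (op (inter U x)) ≃+ P.obj (op (inter V x)) := fun m x =>
    (P.mapIso (eqToIso (congrArg op (e m x)))).addCommGroupIsoToAddEquiv
  have he : ∀ (m : ℕ) (c : Cochain (G.op ⋙ P) U m) (x : Fin (m + 2) → ι),
      E (m + 1) x (cd (G.op ⋙ P) U m c x) = cd P V m (fun y => E m y (c y)) x := by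
    intro m c x
    rw [cd_apply, cd_apply, map_sum]
    refine Finset.sum_congr rfl fun j _ => ?_
    rw [map_zsmul]
    refine congrArg _ ?_
    change (P.map _).hom ((P.map _).hom (c _)) = (P.map _).hom ((P.map _).hom (c _))
    rw [← ConcreteCategory.comp_apply, ← ConcreteCategory.comp_apply, ← Functor.map_comp,
      ← Functor.map_comp]
    exact congrArg (fun k => (P.map k).hom (c _)) (Subsingleton.elim _ _)
  intro s hs
  obtain ⟨t, ht⟩ := h (fun x => (E (n + 1) x).symm (s x)) (funext fun x => (E (n + 2) x).injective (by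
    rw [he, Pi.zero_apply, map_zero]
    simp only [AddEquiv.apply_symm_apply]
    exact congrFun hs x))
  refine ⟨fun x => E n x (t x), funext fun x => ?_⟩
  rw [← he, ht, AddEquiv.apply_symm_apply]

section Pull

variable {X' : Scheme.{u}} {ι : Type u} (O : X'.Opens) (h : O.toScheme ⟶ X) (U : ι → X.Opens)

/-- The pulled family. -/
noncomputable abbrev pullFam : ι → X'.Opens := fun i => O.ι ''ᵁ h ⁻¹ᵁ U i

theorem inter_pullFam {n : ℕ} (x : Fin (n + 1) → ι) :
    inter (X := X'.toPresheafedSpace.carrier) (pullFam O h U) x =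
      O.ι ''ᵁ h ⁻¹ᵁ inter (X := X.toPresheafedSpace.carrier) U x := by
  refine le_antisymm (fun p hp => ?_) (le_inter fun a => ?_)
  · obtain ⟨q, hq, rfl⟩ := mem_inter.mp hp 0
    refine ⟨q, mem_inter.mpr fun a => ?_, rfl⟩
    obtain ⟨q', hq', e⟩ := mem_inter.mp hp a
    rwa [← O.ι.isOpenEmbedding.injective e]
  · exact O.ι.image_mono (h.preimage_mono (inter_le (X := X.toPresheafedSpace.carrier) U x a))

theorem isAffineOpen_inter_pullFam [IsAffineHom h]
    (haff : ∀ {n : ℕ} (x : Fin (n + 1) → ι), IsAffineOpen (inter (X := X.toPresheafedSpace.carrier) U x))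
    {n : ℕ} (x : Fin (n + 1) → ι) :
    IsAffineOpen (inter (X := X'.toPresheafedSpace.carrier) (pullFam O h U) x) := by
  rw [inter_pullFam]
  exact ((haff x).preimage h).image_of_isOpenImmersion O.ι

set_option maxHeartbeats 2000000 in
/-- Vanishing passes to opens mapping affinely. -/
theorem Van.pull [IsAffineHom h] {d : ℕ} (hU : Van U d) : Van (pullFam O h U) d := by
  intro M hM n hn
  haveI : (M.restrict O.ι).IsQuasicoherent := Scheme.Modules.isQuasicoherent_restrictFunctor O.ι M
  have hN := Groth.Agent.QCoh.isQuasicoherent_pushforward h (M.restrict O.ι)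
  refine cechExact_of_functor (S := X.toPresheafedSpace.carrier)
    (Opens.map h.base ⋙ O.ι.opensFunctor) M.presheaf U (pullFam O h U)
    (fun m x => (inter_pullFam O h U x).symm) ?_
  exact hU _ hN n hn

end Pull

section Noetherian

open Groth.Agent.Props.SubMod Groth.Agent.Props.SubSheaf Groth.Agent.Props.SubExt

/-- Finitely many sections over affine opens lie in a coherent submodule. -/
theorem exists_sub_coh [CompactSpace X] [QuasiSeparatedSpace X] (M : X.Modules) [M.IsQuasicoherent]
    {κ : Type*} (s : Finset κ) (W : κ → X.Opens) (hW : ∀ k, IsAffineOpen (W k))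
    (m : ∀ k, Γ(M, W k)) :
    ∃ (G : X.Modules) (g : G ⟶ M), Coh.IsCoh G ∧ (∀ V : X.Opens, Function.Injective (g.app V)) ∧
      ∀ k ∈ s, m k ∈ Set.range (g.app (W k)) := by
  classical
  suffices ∃ S : StalkSub M, FTOn S ⊤ ∧ ∀ k ∈ s, m k ∈ Set.range ((incl S).app (W k)) by
    obtain ⟨S, hS, hm⟩ := this
    exact ⟨sub S, incl S, ⟨isQuasicoherent_sub hS, isFiniteType_sub hS⟩, incl_injective S, hm⟩
  induction s using Finset.induction_on with
  | empty =>
    refine ⟨fun _ => ⊥, fun x hx => ?_, fun k hk => absurd hk (Finset.notMem_empty k)⟩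
    obtain ⟨V, hV, hxV, -⟩ := exists_isAffineOpen_mem_and_subset (X := X) hx
    exact ⟨V, hV, hxV, le_top, ∅, fun y hy => by simp [spanGerm]⟩
  | insert k s _ ih =>
    obtain ⟨S, hS, hm⟩ := ih
    obtain ⟨S', hS', hs⟩ := exists_sub_through_section M (W k) (hW k) (m k)
    refine ⟨fun x => S x ⊔ S' x, QCohGen.Noeth.ftOn_sup hS hS', fun l hl => ?_⟩
    refine (mem_range_incl _ _).mpr fun y hy => ?_
    rcases Finset.mem_insert.mp hl with rfl | hl
    · exact Submodule.mem_sup_right ((mem_range_incl S' _).mp hs y hy)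
    · exact Submodule.mem_sup_left ((mem_range_incl S _).mp (hm l hl) y hy)

/-- It is enough to treat coherent modules. -/
theorem van_of_coh [CompactSpace X] [QuasiSeparatedSpace X] {ι : Type u} [Finite ι] (U : ι → X.Opens)
    (haff : ∀ {n : ℕ} (x : Fin (n + 1) → ι), IsAffineOpen (inter (X := X.toPresheafedSpace.carrier) U x))
    (d : ℕ) (h : ∀ G : X.Modules, Coh.IsCoh G → ∀ n, d ≤ n → CechExact G.presheaf U n) : Van U d := by
  intro M hM n hn s hs
  cases nonempty_fintype (Fin (n + 2) → ι)
  obtain ⟨G, g, hG, hinj, hmem⟩ := exists_sub_coh M (Finset.univ : Finset (Fin (n + 2) → ι))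
    (fun x => inter (X := X.toPresheafedSpace.carrier) U x) (fun x => haff x) s
  choose c hc using fun x => hmem x (Finset.mem_univ x)
  have hgc : cmap g.mapPresheaf U (n + 1) c = s := funext hc
  have hcd : cd G.presheaf U (n + 1) c = 0 := by
    have h1 : cmap g.mapPresheaf U (n + 2) (cd G.presheaf U (n + 1) c) = 0 := by
      rw [← cd_cmap, hgc, hs]
    funext x
    refine hinj _ ?_
    rw [Pi.zero_apply, map_zero]
    exact congrFun h1 x
  obtain ⟨t, ht⟩ := h G hG n hn c hcd
  exact ⟨cmap g.mapPresheaf U n t, by rw [cd_cmap, ht, hgc]⟩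

end Noetherian

section Rpush

open Groth.Agent.CBC

variable {S : Scheme.{u}} {f : X ⟶ S} {V : S.Opens} (D : Model f V) (M : X.Modules)
  [M.IsQuasicoherent] [IsSeparated f] [QuasiCompact f] [HasInjectiveResolutions X.Modules]

/-- Exactness of the Čech complex kills the sections of the higher direct image. -/
theorem subsingleton_rpush (hV : IsAffineOpen V) (n : ℕ) (h : CechExact M.presheaf D.U n) :
    Subsingleton Γ((Coh.Rpush f (n + 1)).obj M, V) := by
  haveI : Subsingleton ((D.K M).H₀ (n + 1)) := subsingleton_of_forall_eq 0 fun z => by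
    obtain ⟨z, rfl⟩ := Submodule.Quotient.mk_surjective _ z
    obtain ⟨t, ht⟩ := h z.1 z.2
    exact (Submodule.Quotient.mk_eq_zero _).mpr ⟨t, ht⟩
  exact (rpushEquiv D M hV (n + 1)).symm.toEquiv.subsingleton

/-- Conversely the vanishing of the sections gives exactness. -/
theorem cechExact_of_subsingleton_rpush (hV : IsAffineOpen V) (n : ℕ)
    (h : Subsingleton Γ((Coh.Rpush f (n + 1)).obj M, V)) : CechExact M.presheaf D.U n := by
  haveI : Subsingleton ((D.K M).H₀ (n + 1)) := (rpushEquiv D M hV (n + 1)).toEquiv.subsingleton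
  intro s hs
  have h0 : (Submodule.Quotient.mk ⟨s, hs⟩ : (D.K M).H₀ (n + 1)) = 0 := Subsingleton.elim _ _
  exact (Submodule.Quotient.mk_eq_zero _).mp h0

end Rpush

section Stalks

/-- A stalk vanishes when the sections over the small affine opens do. -/
theorem subsingleton_stalk {S : Scheme.{u}} (F : TopCat.Sheaf AddCommGrpCat.{u} S.toPresheafedSpace.carrier)
    (V : S.Opens) (y : S) (hy : y ∈ V)
    (h : ∀ W : S.Opens, IsAffineOpen W → W ≤ V → y ∈ W → Subsingleton (F.presheaf.obj (op W))) :
    Subsingleton (F.presheaf.stalk y) := by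
  refine subsingleton_of_forall_eq 0 fun z => ?_
  obtain ⟨U, hyU, t, rfl⟩ := F.presheaf.germ_exist (x := y) z
  obtain ⟨W, hW, hyW, hle⟩ := exists_isAffineOpen_mem_and_subset (U := U ⊓ V) ⟨hyU, hy⟩
  haveI := h W hW (fun w hw => (hle hw).2) hyW
  rw [← F.presheaf.germ_res_apply (homOfLE fun w hw => (hle hw).1) y hyW t,
    Subsingleton.elim ((F.presheaf.map _).hom t) 0, map_zero]

/-- A sheaf with vanishing stalks has no sections. -/
theorem subsingleton_sections {S : Scheme.{u}} (F : TopCat.Sheaf AddCommGrpCat.{u} S.toPresheafedSpace.carrier)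
    (U : S.Opens) (h : ∀ y ∈ U, Subsingleton (F.presheaf.stalk y)) : Subsingleton (F.presheaf.obj (op U)) :=
  ⟨fun a b => TopCat.Presheaf.section_ext F U a b fun y hy => (h y hy).elim _ _⟩

/-- A sheaf with vanishing stalks is zero. -/
theorem isZero_of_stalks {S : Scheme.{u}} (F : TopCat.Sheaf AddCommGrpCat.{u} S.toPresheafedSpace.carrier)
    (h : ∀ y, Subsingleton (F.presheaf.stalk y)) : IsZero F := by
  rw [IsZero.iff_id_eq_zero]
  refine Sheaf.hom_ext (NatTrans.ext (funext fun U => ?_))
  haveI := subsingleton_sections F U.unop fun y _ => h y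
  exact AddCommGrpCat.hom_ext (AddMonoidHom.ext fun x => Subsingleton.elim _ _)

end Stalks

end Groth.Agent.VanQC
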