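import Groth.Agent.VanQC.ClosedModel
import Groth.Agent.QCoh.FiniteType
import Groth.Agent.CohAff.ResOps
import Groth.Agent.S0036

/-!
# The top degree higher direct image is of finite type
-/

set_option autoImplicit false

universe u

open CategoryTheory Limits Opposite TopologicalSpace AlgebraicGeometry TensorProduct

noncomputable section

namespace Groth.Agent.VanQC

open Groth.Agent.CohAff (inter inter_le le_inter mem_inter Cochain cd cd_apply cd_cd cmap cmap_apply
  cd_cmap CechExact res_res res_self)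

section Algebra

open Groth.Agent.CBC in
/-- Finiteness of cohomology from a semilinear map of complexes whose cocycles span. -/
theorem finite_H₀_of_cover {A A₀ : Type u} [CommRing A] [CommRing A₀] (K : SCx A) (K₀ : SCx A₀)
    (τ : A₀ → A) (Ψ : ∀ n, K₀.X n →+ K.X n)
    (hd : ∀ n c, K.d n (Ψ n c) = Ψ (n + 1) (K₀.d n c)) (d : ℕ)
    (hsemi : ∀ (b : A₀) (c : K₀.X d), Ψ d (b • c) = τ b • Ψ d c)
    (hcov : ∀ z, K.d d z = 0 → ∃ (r : ℕ) (a : Fin r → A) (w : Fin r → K₀.X d),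
      (∀ k, K₀.d d (w k) = 0) ∧ z = ∑ k, a k • Ψ d (w k))
    [Module.Finite A₀ (K₀.H₀ d)] : Module.Finite A (K.H₀ d) := by
  obtain ⟨gens, hgens⟩ := (Module.Finite.fg_top : (⊤ : Submodule A₀ (K₀.H₀ d)).FG)
  choose lift hlift using fun q : K₀.H₀ d => Submodule.Quotient.mk_surjective _ q
  let W : Submodule A (K.X d) := Submodule.span A ((fun q => Ψ d (lift q).1) '' (gens : Set _))
  have hB : ∀ n (v : K₀.X n), v ∈ K₀.B₀ n → Ψ n v ∈ K.B₀ n := by
    intro n v hv
    cases n with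
    | zero =>
      rw [show v = 0 from hv, map_zero]
      exact zero_mem _
    | succ n =>
      obtain ⟨t, rfl⟩ := hv
      exact ⟨Ψ n t, hd n t⟩
  have hmemΨ : ∀ w, K₀.d d w = 0 → Ψ d w ∈ W ⊔ K.B₀ d := by
    intro w hw
    have hq : (Submodule.Quotient.mk ⟨w, hw⟩ : K₀.H₀ d) ∈ Submodule.span A₀ (gens : Set _) := by
      rw [hgens]
      exact Submodule.mem_top
    obtain ⟨co, -, hco⟩ := Submodule.mem_span_finset.mp hq
    have hb : w - ∑ q ∈ gens, co q • (lift q).1 ∈ K₀.B₀ d := by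
      have h0 : (Submodule.Quotient.mk (⟨w, hw⟩ - ∑ q ∈ gens, co q • lift q) : K₀.H₀ d) = 0 := by
        rw [Submodule.Quotient.mk_sub, sub_eq_zero, ← Submodule.mkQ_apply _ (∑ q ∈ gens, co q • lift q),
          map_sum, ← hco]
        exact Finset.sum_congr rfl fun q _ => by rw [map_smul, Submodule.mkQ_apply, hlift]
      rw [Submodule.Quotient.mk_eq_zero, Submodule.mem_comap, Submodule.subtype_apply,
        AddSubgroupClass.coe_sub, AddSubmonoidClass.coe_finsetSum] at h0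
      exact h0
    rw [show w = (∑ q ∈ gens, co q • (lift q).1) + (w - ∑ q ∈ gens, co q • (lift q).1) from
      (add_sub_cancel _ _).symm, map_add, map_sum]
    refine add_mem (Submodule.mem_sup_left (Submodule.sum_mem _ fun q hq => ?_))
      (Submodule.mem_sup_right (hB d _ hb))
    rw [hsemi]
    exact Submodule.smul_mem _ _ (Submodule.subset_span ⟨q, hq, rfl⟩)
  have hWle : W ≤ K.Z₀ d := Submodule.span_le.mpr fun v hv => by
    obtain ⟨q, -, rfl⟩ := hv
    show K.d d (Ψ d (lift q).1) = 0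
    rw [hd, show K₀.d d (lift q).1 = 0 from (lift q).2, map_zero]
  haveI : Module.Finite A W := Module.Finite.span_of_finite _ (gens.finite_toSet.image _)
  let π : W →ₗ[A] K.H₀ d := (Submodule.mkQ _) ∘ₗ Submodule.inclusion hWle
  refine Module.Finite.of_surjective π fun q => ?_
  obtain ⟨⟨z, hz⟩, rfl⟩ := Submodule.Quotient.mk_surjective _ q
  obtain ⟨r, a, w, hw, rfl⟩ := hcov z hz
  obtain ⟨v, hv, b, hb, hvb⟩ := Submodule.mem_sup.mp
    (Submodule.sum_mem (W ⊔ K.B₀ d) (t := Finset.univ) fun k _ =>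
      Submodule.smul_mem _ (a k) (hmemΨ _ (hw k)))
  refine ⟨⟨v, hv⟩, ((Submodule.Quotient.eq _).mpr ?_)⟩
  show v - (∑ k, a k • Ψ d (w k)) ∈ K.B₀ d
  rw [← hvb, sub_add_cancel_left]
  exact neg_mem hb

end Algebra

section Generation

/-- A pushout of rings is generated by products from the two sides. -/
theorem mem_closure_of_isPushout {R A B P : CommRingCat.{u}} {f : R ⟶ A} {g : R ⟶ B} {a : A ⟶ P}
    {b : B ⟶ P} (h : IsPushout f g a b) (p : P) :
    p ∈ AddSubgroup.closure (Set.range fun xy : ↑A × ↑B => a xy.1 * b xy.2) := by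
  algebraize [f.hom, g.hom]
  have h' : IsPushout (CommRingCat.ofHom (algebraMap R A)) (CommRingCat.ofHom (algebraMap R B)) a b := h
  let θ := (CommRingCat.isPushout_tensorProduct R A B).isoIsPushout _ _ h'
  obtain ⟨t, rfl⟩ : ∃ t, θ.hom t = p := ⟨θ.inv p, ConcreteCategory.congr_hom θ.inv_hom_id p⟩
  induction t using TensorProduct.induction_on with
  | zero =>
    rw [map_zero]
    exact zero_mem _
  | tmul x y =>
    refine AddSubgroup.subset_closure ⟨(x, y), ?_⟩
    have hx : θ.hom (x ⊗ₜ[R] (1 : B)) = a x :=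
      ConcreteCategory.congr_hom ((CommRingCat.isPushout_tensorProduct R A B).inl_isoIsPushout_hom _ _ h') x
    have hy : θ.hom ((1 : A) ⊗ₜ[R] y) = b y :=
      ConcreteCategory.congr_hom ((CommRingCat.isPushout_tensorProduct R A B).inr_isoIsPushout_hom _ _ h') y
    show a x * b y = _
    rw [← hx, ← hy, ← map_mul, Algebra.TensorProduct.tmul_mul_tmul, mul_one, one_mul]
  | add x y hx hy =>
    rw [map_add]
    exact add_mem hx hy

end Generation

section Transport

variable {S T : TopCat.{u}} (G : Opens S ⥤ Opens T) (P : TopCat.Presheaf AddCommGrpCat.{u} T)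
  {ι : Type u} (U : ι → Opens S) (V : ι → Opens T)
  (e : ∀ (m : ℕ) (x : Fin (m + 1) → ι), inter V x = G.obj (inter U x))

/-- Cochains along an equality of intersections. -/
def tr (n : ℕ) : Cochain (G.op ⋙ P) U n →+ Cochain P V n :=
  AddMonoidHom.mk' (fun c x => CohAff.res P (e n x).le (c x)) fun c c' => by
    funext x
    exact map_add _ _ _

lemma tr_apply (n : ℕ) (c : Cochain (G.op ⋙ P) U n) (x : Fin (n + 1) → ι) :
    tr G P U V e n c x = CohAff.res P (e n x).le (c x) := rfl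

lemma tr_bijective (n : ℕ) : Function.Bijective (tr G P U V e n) := by
  refine Function.bijective_iff_has_inverse.mpr
    ⟨fun c x => CohAff.res P (e n x).ge (c x), fun c => funext fun x => ?_, fun c => funext fun x => ?_⟩
  · show CohAff.res P _ (CohAff.res P _ (c x)) = c x
    rw [res_res]
    exact res_self P _ _
  · show CohAff.res P _ (CohAff.res P _ (c x)) = c x
    rw [res_res]
    exact res_self P _ _

lemma cd_tr (n : ℕ) (c : Cochain (G.op ⋙ P) U n) :
    cd P V n (tr G P U V e n c) = tr G P U V e (n + 1) (cd (G.op ⋙ P) U n c) := by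
  funext x
  rw [cd_apply, tr_apply, cd_apply, map_sum]
  refine Finset.sum_congr rfl fun j _ => ?_
  rw [map_zsmul]
  refine congrArg _ ?_
  show CohAff.res P _ (CohAff.res P _ (c _)) = CohAff.res P _ ((P.map _).hom (c _))
  rw [CohAff.map_eq_res P, res_res, res_res]

end Transport

/-- Multiplication by a global function. -/
def smulMod {X : Scheme.{u}} (M : X.Modules) (r : Γ(X, ⊤)) : M ⟶ M :=
  ⟨{ app := fun U => ModuleCat.ofHom
      { toFun := fun m => Coh.resTop X U r • m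
        map_add' := fun m m' => smul_add _ m m'
        map_smul' := fun s m => by
          rw [RingHom.id_apply, smul_smul, smul_smul]
          exact congrArg (· • m) (mul_comm (show Γ(X, U.unop) from Coh.resTop X U r) (show Γ(X, U.unop) from s)) }
     naturality := fun {U V} i => by
        refine ModuleCat.hom_ext (LinearMap.ext fun m => ?_)
        change Coh.resTop X V r • (M.val.map i).hom m = (M.val.map i).hom (Coh.resTop X U r • m)
        rw [← Coh.resTop_comp U V i r]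
        exact (M.val.map_smul i (Coh.resTop X U r) m).symm }⟩

lemma smulMod_app {X : Scheme.{u}} (M : X.Modules) (r : Γ(X, ⊤)) (U : X.Opens) (m : Γ(M, U)) :
    (smulMod M r).app U m = QCoh.rres (le_top : U ≤ ⊤) r • m := rfl

variable {X Y : Scheme.{u}} {f : X ⟶ Y} {V : Y.Opens}

omit f V in
/-- Restricting a scaled section of a restricted module. -/
lemma res_restrict_smul (O : X.Opens) (M : X.Modules) {W : O.toScheme.Opens} {W' : X.Opens}
    (hW : W' ≤ O.ι ''ᵁ W) (r : Γ(O.toScheme, W)) (m : Γ(M.restrict O.ι, W)) :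
    QCoh.res M hW (show Γ(M, O.ι ''ᵁ W) from r • m) =
      QCoh.rres hW (show Γ(X, O.ι ''ᵁ W) from r) • QCoh.res M hW (show Γ(M, O.ι ''ᵁ W) from m) := by
  refine Eq.trans (congrArg (QCoh.res M hW) ?_) (QCoh.res_smul M hW _ _)
  refine (QCoh.restrict_smul O.ι M r m).trans ?_
  rw [Scheme.Opens.ι_appIso]
  rfl

/-- The pulled back Čech model. -/
def pullModel {X₀ : Scheme.{u}} (h : (f ⁻¹ᵁ V).toScheme ⟶ X₀) [IsAffineHom h] {ι : Type u} [Finite ι]
    (U : ι → X₀.Opens) (hcov : ⊤ ≤ ⨆ i, U i)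
    (haff : ∀ {n : ℕ} (x : Fin (n + 1) → ι), IsAffineOpen (inter (X := X₀.toPresheafedSpace.carrier) U x)) :
    CBC.Model f V where
  ι := ι
  fin := inferInstance
  U := pullFam (f ⁻¹ᵁ V) h U
  hU i := by
    rintro _ ⟨p, -, rfl⟩
    exact p.2
  cov x hx := by
    obtain ⟨i, hi⟩ := Opens.mem_iSup.mp (hcov (Opens.mem_top (h ⟨x, hx⟩)))
    exact Opens.mem_iSup.mpr ⟨i, ⟨x, hx⟩, hi, rfl⟩
  aff x := isAffineOpen_inter_pullFam (f ⁻¹ᵁ V) h U haff x

section Main

variable {d : ℕ} (C : ClosedModel f V d)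

/-- The affine map to the noetherian model. -/
abbrev ClosedModel.h : (f ⁻¹ᵁ V).toScheme ⟶ C.X₀ := C.k ≫ C.q

variable [IsAffine V.toScheme]

lemma ClosedModel.isAffineHom_q : IsAffineHom C.q := by
  haveI := C.affine
  exact MorphismProperty.of_isPullback C.sq.flip (inferInstance : IsAffineHom C.τ)

lemma ClosedModel.isAffineHom_h : IsAffineHom C.h := by
  haveI := C.closed
  haveI := C.isAffineHom_q
  infer_instance

/-- A function on the base over `V`, on the preimage. -/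
def scal (f : X ⟶ Y) (V : Y.Opens) (a : Γ(Y, V)) : Γ((f ⁻¹ᵁ V).toScheme, ⊤) :=
  QCoh.rres ((f ⁻¹ᵁ V).ι_image_le ⊤) (f.app V a)

omit [IsAffine V.toScheme] in
/-- Functions pulled back from the base are the scalars. -/
lemma app_top_eq_scal (a' : Γ(V.toScheme, ⊤)) :
    (f ∣_ V).app ⊤ a' = scal f V (QCoh.rres (V.ι_image_top).ge a') := by
  show (f ∣_ V).app ⊤ a' = (Y.presheaf.map (homOfLE (V.ι_image_top).ge).op ≫ f.app V ≫
    X.presheaf.map (homOfLE ((f ⁻¹ᵁ V).ι_image_le ⊤)).op) a'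
  rw [morphismRestrict_app, f.naturality_assoc, ← Functor.map_comp]
  rfl

omit [IsAffine V.toScheme] in
/-- Functions pulled back from the base are the scalars, on every open. -/
lemma appLE_eq_scal (W : (f ⁻¹ᵁ V).toScheme.Opens) (e : W ≤ (f ∣_ V) ⁻¹ᵁ ⊤) (a' : Γ(V.toScheme, ⊤)) :
    (f ∣_ V).appLE ⊤ W e a' =
      QCoh.rres (le_top : W ≤ ⊤) (scal f V (QCoh.rres (V.ι_image_top).ge a')) :=
  congrArg (QCoh.rres (le_top : W ≤ ⊤)) (app_top_eq_scal a')

/-- Functions on the preimage of an affine are generated by those of the model and of the base. -/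
theorem ClosedModel.mem_closure (I : C.X₀.Opens) (hI : IsAffineOpen I)
    (c : Γ((f ⁻¹ᵁ V).toScheme, C.h ⁻¹ᵁ I)) :
    c ∈ AddSubgroup.closure (Set.range fun ab : Γ(Y, V) × Γ(C.X₀, I) =>
      QCoh.rres (le_top : C.h ⁻¹ᵁ I ≤ ⊤) (scal f V ab.1) * C.h.app I ab.2) := by
  haveI := C.affine
  haveI := C.isAffineHom_q
  haveI := C.closed
  have hUY : C.q ⁻¹ᵁ I = C.q ⁻¹ᵁ I ⊓ C.r ⁻¹ᵁ ⊤ := by
    rw [Scheme.Hom.preimage_top, inf_top_eq]
  have po := (isIso_pushoutSection_iff C.sq (US := ⊤) (UT := ⊤) (UX := I) le_top le_top hUY).mp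
    (isIso_pushoutSection_of_isAffineOpen C.sq le_top le_top hUY (isAffineOpen_top _) (isAffineOpen_top _) hI)
  obtain ⟨p, rfl⟩ := C.k.app_surjective (C.q ⁻¹ᵁ I) (hI.preimage C.q) c
  have hp := mem_closure_of_isPushout po p
  induction hp using AddSubgroup.closure_induction with
  | mem p hp =>
    obtain ⟨⟨b, a'⟩, rfl⟩ := hp
    have htop : V.ι ''ᵁ ⊤ = V := V.ι_image_top
    refine AddSubgroup.subset_closure ⟨(QCoh.rres htop.ge a', b), ?_⟩
    show _ * _ = C.k.app (C.q ⁻¹ᵁ I) (C.q.appLE I (C.q ⁻¹ᵁ I) _ b * C.r.appLE ⊤ (C.q ⁻¹ᵁ I) _ a')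
    refine (mul_comm _ _).trans (Eq.trans (congrArg₂ (· * ·) ?_ ?_) (map_mul _ _ _).symm)
    · refine Eq.trans ?_ (congrArg (C.k.app (C.q ⁻¹ᵁ I))
        (ConcreteCategory.congr_hom (Scheme.Hom.appLE_eq_app C.q) b).symm)
      rfl
    · have e1 : ∀ z, C.k.app (C.q ⁻¹ᵁ I) (C.r.appLE ⊤ (C.q ⁻¹ᵁ I) le_top z) =
          (C.k ≫ C.r).appLE ⊤ (C.h ⁻¹ᵁ I) le_top z := fun z => by
        rw [← Scheme.Hom.appLE_eq_app C.k]
        exact ConcreteCategory.congr_hom
          (Scheme.Hom.appLE_comp_appLE C.k C.r ⊤ (C.q ⁻¹ᵁ I) (C.h ⁻¹ᵁ I) le_top le_rfl) z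
      refine Eq.trans ?_ (e1 a').symm
      have e2 : ∀ (k : (f ⁻¹ᵁ V).toScheme ⟶ V.toScheme), k = f ∣_ V →
          k.appLE ⊤ (C.h ⁻¹ᵁ I) le_top a' = (f ∣_ V).appLE ⊤ (C.h ⁻¹ᵁ I) le_top a' := by
        rintro k rfl
        rfl
      exact (appLE_eq_scal _ _ a').symm.trans (e2 _ C.k_r).symm
  | zero =>
    rw [map_zero]
    exact zero_mem _
  | add x y _ _ hx hy =>
    rw [map_add]
    exact add_mem hx hy
  | neg x _ hx =>
    rw [map_neg]
    exact neg_mem hx

omit [IsAffine V.toScheme] in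
/-- Restrictions of scalars. -/
lemma rres_scal {W : (f ⁻¹ᵁ V).toScheme.Opens} {W' : X.Opens} (hW : W' ≤ (f ⁻¹ᵁ V).ι ''ᵁ W)
    (hV' : W' ≤ f ⁻¹ᵁ V) (a : Γ(Y, V)) :
    QCoh.rres hW (show Γ(X, (f ⁻¹ᵁ V).ι ''ᵁ W) from QCoh.rres (le_top : W ≤ ⊤) (scal f V a)) =
      QCoh.rres hV' (f.app V a) := by
  show QCoh.rres hW (QCoh.rres ((f ⁻¹ᵁ V).ι.image_mono (le_top : W ≤ ⊤))
    (QCoh.rres ((f ⁻¹ᵁ V).ι_image_le ⊤) (f.app V a))) = _
  rw [QCoh.rres_rres, QCoh.rres_rres]

omit [IsAffine V.toScheme] in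
/-- Functions of the model base pull back to scalars. -/
lemma ClosedModel.app_h_base (b : Γ(C.Y₀, ⊤)) (I : C.X₀.Opens) (hI : I ≤ C.f₀ ⁻¹ᵁ ⊤) :
    C.h.app I (QCoh.rres hI (C.f₀.app ⊤ b)) =
      QCoh.rres (le_top : C.h ⁻¹ᵁ I ≤ ⊤) (scal f V (QCoh.rres (V.ι_image_top).ge (C.τ.app ⊤ b))) := by
  have hw : C.h ≫ C.f₀ = (f ∣_ V) ≫ C.τ := by
    rw [Category.assoc, C.sq.w, ← Category.assoc, C.k_r]
  have e : ∀ (u v : (f ⁻¹ᵁ V).toScheme ⟶ C.Y₀), u = v →
      u.appLE ⊤ (C.h ⁻¹ᵁ I) le_top b = v.appLE ⊤ (C.h ⁻¹ᵁ I) le_top b := by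
    rintro u v rfl
    rfl
  refine Eq.trans ?_ ((e _ _ hw).trans ?_)
  · rw [← Scheme.Hom.appLE_comp_appLE C.h C.f₀ ⊤ I (C.h ⁻¹ᵁ I) hI le_rfl, Scheme.Hom.appLE_eq_app C.h]
    rfl
  · rw [← Scheme.Hom.appLE_comp_appLE (f ∣_ V) C.τ ⊤ ⊤ (C.h ⁻¹ᵁ I) le_top le_top]
    exact (congrArg ((f ∣_ V).appLE ⊤ (C.h ⁻¹ᵁ I) le_top)
      (ConcreteCategory.congr_hom (Scheme.Hom.appLE_eq_app C.τ (U := ⊤)) b)).trans (appLE_eq_scal _ _ _)

variable (M : X.Modules) [M.IsQuasicoherent]

/-- The module on the model. -/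
abbrev ClosedModel.N : C.X₀.Modules :=
  (Scheme.Modules.pushforward C.h).obj (M.restrict (f ⁻¹ᵁ V).ι)

/-- Multiplication by a function on the base. -/
def ClosedModel.ε (a : Γ(Y, V)) : C.N M ⟶ C.N M :=
  (Scheme.Modules.pushforward C.h).map (smulMod (M.restrict (f ⁻¹ᵁ V).ι) (scal f V a))

lemma ClosedModel.ε_app (a : Γ(Y, V)) (I : C.X₀.Opens) (m : Γ(C.N M, I)) :
    (C.ε M a).app I m =
      (show Γ(C.N M, I) from (show Γ((f ⁻¹ᵁ V).toScheme, C.h ⁻¹ᵁ I) from
        QCoh.rres (le_top : C.h ⁻¹ᵁ I ≤ ⊤) (scal f V a)) •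
          (show Γ(M.restrict (f ⁻¹ᵁ V).ι, C.h ⁻¹ᵁ I) from m)) := rfl

lemma app_sum {Z : Scheme.{u}} {P Q : Z.Modules} {κ : Type*} (s : Finset κ) (φ : κ → (P ⟶ Q))
    (U : Z.Opens) (m : Γ(P, U)) : (∑ k ∈ s, φ k).app U m = ∑ k ∈ s, (φ k).app U m := by
  have h := ConcreteCategory.congr_hom ((QCoh.sectionsFunctor Z U).map_sum φ s) m
  refine h.trans ?_
  classical
  induction s using Finset.induction_on with
  | empty => rfl
  | insert k s hk ih =>
    rw [Finset.sum_insert hk, Finset.sum_insert hk]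
    exact congrArg (((φ k).app U m) + ·) (ih ((ConcreteCategory.congr_hom
      ((QCoh.sectionsFunctor Z U).map_sum φ s) m)))

/-- A cocycle in the image of finitely many maps comes from cocycles. -/
theorem exists_cocycles {Z : Scheme.{u}} {ι : Type u} {U : ι → Z.Opens} {d : ℕ} (hU : Van U d)
    {G N : Z.Modules} [G.IsQuasicoherent] [N.IsQuasicoherent] {r : ℕ} (ψ : Fin r → (G ⟶ N))
    (c : Fin r → Cochain G.presheaf U d)
    (hz : cd N.presheaf U d (∑ k, cmap (ψ k).mapPresheaf U d (c k)) = 0) :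
    ∃ w : Fin r → Cochain G.presheaf U d, (∀ k, cd G.presheaf U d (w k) = 0) ∧
      ∑ k, cmap (ψ k).mapPresheaf U d (w k) = ∑ k, cmap (ψ k).mapPresheaf U d (c k) := by
  let P := biproduct (fun _ : Fin r => G)
  haveI : P.IsQuasicoherent := CohAff.isQuasicoherent_biproduct _
  let Φ : P ⟶ N := biproduct.desc ψ
  let S : ShortComplex Z.Modules := ShortComplex.mk (kernel.ι Φ) Φ (kernel.condition Φ)
  have hS : S.Exact := ShortComplex.exact_of_f_is_kernel _ (kernelIsKernel Φ)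
  haveI : Mono S.f := inferInstanceAs (Mono (kernel.ι Φ))
  haveI : S.X₂.IsQuasicoherent := inferInstanceAs P.IsQuasicoherent
  haveI : S.X₃.IsQuasicoherent := inferInstanceAs N.IsQuasicoherent
  have hK : (kernel Φ).IsQuasicoherent := QCoh.isQuasicoherent_X₁ S hS
  let Cc : Cochain P.presheaf U d :=
    ∑ k, cmap (biproduct.ι (fun _ : Fin r => G) k).mapPresheaf U d (c k)
  have hΦ : cmap Φ.mapPresheaf U d Cc = ∑ k, cmap (ψ k).mapPresheaf U d (c k) := by
    rw [map_sum]
    refine Finset.sum_congr rfl fun k _ => funext fun x => ?_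
    show Φ.app _ ((biproduct.ι (fun _ : Fin r => G) k).app _ (c k x)) = (ψ k).app _ (c k x)
    rw [← ConcreteCategory.comp_apply, ← Scheme.Modules.Hom.comp_app, biproduct.ι_desc]
  have hker : ∀ x, ∃ t, (kernel.ι Φ).app _ t = cd P.presheaf U d Cc x := fun x => by
    refine QCoh.exists_app_eq_of_app_eq_zero S hS _ _ ?_
    have h := congrFun ((cd_cmap Φ.mapPresheaf U d Cc).symm.trans ((congrArg _ hΦ).trans hz)) x
    exact h
  choose e₀ he₀ using hker
  have he₀' : cmap (kernel.ι Φ).mapPresheaf U (d + 1) e₀ = cd P.presheaf U d Cc := funext he₀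
  have hcd : cd (kernel Φ).presheaf U (d + 1) e₀ = 0 := by
    funext x
    refine QCoh.app_injective_of_mono (kernel.ι Φ) _ ?_
    rw [Pi.zero_apply, map_zero]
    refine (congrFun (cd_cmap (kernel.ι Φ).mapPresheaf U (d + 1) e₀).symm x).trans ?_
    rw [he₀', cd_cd]
    rfl
  obtain ⟨e, he⟩ := hU _ hK d le_rfl e₀ hcd
  let C' : Cochain P.presheaf U d := Cc - cmap (kernel.ι Φ).mapPresheaf U d e
  have hC' : cd P.presheaf U d C' = 0 := by
    rw [map_sub, cd_cmap, he, he₀', sub_self]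
  refine ⟨fun k => cmap (biproduct.π (fun _ : Fin r => G) k).mapPresheaf U d C', fun k => ?_, ?_⟩
  · rw [cd_cmap, hC', map_zero]
  · rw [← hΦ]
    funext x
    rw [Finset.sum_apply]
    have h1 : Φ.app _ (C' x) = Φ.app _ (Cc x) := by
      show Φ.app _ (Cc x - (kernel.ι Φ).app _ (e x)) = _
      rw [map_sub, QCoh.app_app_eq_zero S, sub_zero]
    refine Eq.trans ?_ h1
    rw [show Φ = ∑ k, biproduct.π (fun _ : Fin r => G) k ≫ ψ k from biproduct.desc_eq, app_sum]
    exact Finset.sum_congr rfl fun k _ => rfl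

set_option maxHeartbeats 1000000 in
include C in
/-- Every cochain is a combination of cochains of a coherent submodule. -/
theorem ClosedModel.exists_repr [IsAffineHom C.h] [CompactSpace C.X₀] [QuasiSeparatedSpace C.X₀]
    [(C.N M).IsQuasicoherent] [SheafOfModules.IsFiniteType.{u} M] (D₀ : CBC.Model C.f₀ ⊤) :
    ∃ (G : C.X₀.Modules) (g : G ⟶ C.N M), Coh.IsCoh G ∧
      ∀ z : Cochain (C.N M).presheaf D₀.U d, ∃ (r : ℕ) (a : Fin r → Γ(Y, V))
        (c : Fin r → Cochain G.presheaf D₀.U d),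
        z = ∑ k, cmap (g ≫ C.ε M (a k)).mapPresheaf D₀.U d (c k) := by
  classical
  let O := f ⁻¹ᵁ V
  let U₀ := D₀.U
  -- finitely many generators, inside a coherent submodule
  have hWaff : ∀ x : Fin (d + 1) → D₀.ι, IsAffineOpen (O.ι ''ᵁ C.h ⁻¹ᵁ inter (X := C.X₀.toPresheafedSpace.carrier) U₀ x) :=
    fun x => ((D₀.aff x).preimage C.h).image_of_isOpenImmersion O.ι
  have hgen : ∀ x : Fin (d + 1) → D₀.ι, ∃ s : Finset Γ(M, O.ι ''ᵁ C.h ⁻¹ᵁ inter (X := C.X₀.toPresheafedSpace.carrier) U₀ x),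
      Submodule.span Γ(X, O.ι ''ᵁ C.h ⁻¹ᵁ inter (X := C.X₀.toPresheafedSpace.carrier) U₀ x) (SetLike.coe s) = ⊤ := fun x => by
    haveI := QCoh.finite_sections_of_isFiniteType M (hWaff x)
    exact Module.Finite.fg_top
  choose s hs using hgen
  cases nonempty_fintype (Fin (d + 1) → D₀.ι)
  obtain ⟨G, g, hG, -, hmem⟩ := exists_sub_coh (C.N M)
    (Finset.univ : Finset (Σ x : Fin (d + 1) → D₀.ι, {m // m ∈ s x}))
    (fun k => inter (X := C.X₀.toPresheafedSpace.carrier) U₀ k.1) (fun k => D₀.aff k.1)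
    (fun k => k.2.1)
  haveI : G.IsQuasicoherent := hG.1
  -- the span
  let Sgen : AddSubgroup (Cochain (C.N M).presheaf U₀ d) := AddSubgroup.closure
    (Set.range fun ac : Γ(Y, V) × Cochain G.presheaf U₀ d =>
      cmap (g ≫ C.ε M ac.1).mapPresheaf U₀ d ac.2)
  have hspan : ∀ z, z ∈ Sgen := by
    intro z
    rw [← Finset.univ_sum_single z]
    refine AddSubgroup.sum_mem _ fun x _ => ?_
    suffices ∀ m, Pi.single x m ∈ Sgen from this (z x)
    intro m
    let m' : Γ(M, O.ι ''ᵁ C.h ⁻¹ᵁ inter (X := C.X₀.toPresheafedSpace.carrier) U₀ x) := m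
    obtain ⟨co, -, hco⟩ := Submodule.mem_span_finset.mp (show m' ∈ Submodule.span _ (s x : Set _) by
      rw [hs x]; exact Submodule.mem_top)
    have hm : m = ∑ y ∈ s x, co y • y := hco.symm
    rw [hm]
    let σ := AddMonoidHom.single (fun y : Fin (d + 1) → D₀.ι =>
      ((C.N M).presheaf.obj (op (inter (X := C.X₀.toPresheafedSpace.carrier) U₀ y)) : Type u)) x
    show σ _ ∈ Sgen
    erw [map_sum]
    refine AddSubgroup.sum_mem _ fun y hy => ?_
    let y' : Γ(M.restrict O.ι, C.h ⁻¹ᵁ inter (X := C.X₀.toPresheafedSpace.carrier) U₀ x) := y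
    let L : Γ(O.toScheme, C.h ⁻¹ᵁ inter (X := C.X₀.toPresheafedSpace.carrier) U₀ x) →+
        Cochain (C.N M).presheaf U₀ d :=
      AddMonoidHom.mk' (fun c => σ (c • y')) fun c c' =>
        (congrArg σ (add_smul c c' y')).trans (map_add σ _ _)
    suffices hL : L (co y) ∈ Sgen by
      have hsm : (co y • y : Γ(M, O.ι ''ᵁ C.h ⁻¹ᵁ inter (X := C.X₀.toPresheafedSpace.carrier) U₀ x)) =
          ((show Γ(O.toScheme, C.h ⁻¹ᵁ inter (X := C.X₀.toPresheafedSpace.carrier) U₀ x) from co y) • y' : Γ(M.restrict O.ι, _)) := by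
        refine Eq.trans ?_ (QCoh.restrict_smul O.ι M _ y').symm
        rw [Scheme.Opens.ι_appIso]
        rfl
      rw [hsm]
      exact hL
    refine ((AddSubgroup.closure_le (Sgen.comap L)).mpr ?_) (C.mem_closure _ (D₀.aff x) (co y))
    rintro _ ⟨⟨a, b⟩, rfl⟩
    obtain ⟨w, hw⟩ := hmem ⟨x, y, hy⟩ (Finset.mem_univ _)
    have h1 : (g ≫ C.ε M a).app _ (b • w) =
        (QCoh.rres (le_top : C.h ⁻¹ᵁ inter (X := C.X₀.toPresheafedSpace.carrier) U₀ x ≤ ⊤) (scal f V a) *
          C.h.app _ b) • y' := by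
      refine (congrArg ((C.ε M a).app _) (Scheme.Modules.Hom.app_smul g b w)).trans ?_
      refine (congrArg (fun t => (C.ε M a).app _ (b • t)) hw).trans ?_
      refine (C.ε_app M a _ _).trans ?_
      rw [mul_smul]
      rfl
    refine AddSubgroup.subset_closure ⟨(a, Pi.single x (b • w)), ?_⟩
    refine Eq.trans (funext fun x' => ?_) (congrArg σ h1)
    show (g ≫ C.ε M a).app _ ((Pi.single x (b • w) : Cochain G.presheaf U₀ d) x') =
      (Pi.single x ((g ≫ C.ε M a).app _ (b • w)) : Cochain (C.N M).presheaf U₀ d) x'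
    by_cases hx : x' = x
    · subst hx
      rw [Pi.single_eq_same, Pi.single_eq_same]
    · rw [Pi.single_eq_of_ne hx, Pi.single_eq_of_ne hx, map_zero]
  have hform : ∀ z, z ∈ Sgen → ∃ (r : ℕ) (a : Fin r → Γ(Y, V)) (c : Fin r → Cochain G.presheaf U₀ d),
      z = ∑ k, cmap (g ≫ C.ε M (a k)).mapPresheaf U₀ d (c k) := by
    intro z hz
    induction hz using AddSubgroup.closure_induction with
    | mem z hz =>
      obtain ⟨⟨a, c⟩, rfl⟩ := hz
      exact ⟨1, fun _ => a, fun _ => c, by simp⟩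
    | zero => exact ⟨0, Fin.elim0, Fin.elim0, by simp⟩
    | add z z' _ _ hz hz' =>
      obtain ⟨r, a, c, rfl⟩ := hz
      obtain ⟨r', a', c', rfl⟩ := hz'
      refine ⟨r + r', Fin.append a a', Fin.append c c', ?_⟩
      simp [Fin.sum_univ_add]
    | neg z _ hz =>
      obtain ⟨r, a, c, rfl⟩ := hz
      exact ⟨r, a, fun k => -c k, by simp⟩
  exact ⟨G, g, hG, fun z => hform z (hspan z)⟩

set_option maxHeartbeats 1000000 in
include C in
/-- Over a closed model the top degree cohomology is finitely generated. -/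
theorem ClosedModel.finite_top [IsProper f] (hV : IsAffineOpen V) [SheafOfModules.IsFiniteType.{u} M] :
    Module.Finite Γ(Y, V) Γ((Coh.Rpush f d).obj M, V) := by
  classical
  haveI := C.affine; haveI := C.noeth; haveI := C.proper
  haveI := C.isAffineHom_h
  haveI : CompactSpace C.X₀ := QuasiCompact.compactSpace_of_compactSpace C.f₀
  haveI : QuasiSeparatedSpace C.X₀ := quasiSeparatedSpace_of_quasiSeparated C.f₀
  haveI : (M.restrict (f ⁻¹ᵁ V).ι).IsQuasicoherent :=
    Scheme.Modules.isQuasicoherent_restrictFunctor _ M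
  haveI : (C.N M).IsQuasicoherent := Groth.Agent.QCoh.isQuasicoherent_pushforward C.h _
  obtain ⟨D₀⟩ := CBC.nonempty_model C.f₀ (isAffineOpen_top C.Y₀)
  let D := pullModel (f := f) C.h D₀.U D₀.cov D₀.aff
  let U₀ := D₀.U
  have hvan : Van U₀ d := van_of_coh U₀ D₀.aff d fun G hG n hn => by
    haveI : G.IsQuasicoherent := hG.1
    refine cechExact_of_subsingleton_rpush D₀ G (isAffineOpen_top _) n ?_
    exact subsingleton_rpush_sections C.f₀ G (n + 1) ⊤ fun z _ =>
      FormalVan.isZero_stalk_RpushAb C.f₀ z d (C.dim z) G hG (n + 1) (Nat.lt_succ_of_le hn)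
  let O := f ⁻¹ᵁ V
  let Gf : C.X₀.Opens ⥤ X.Opens := Opens.map C.h.base ⋙ O.ι.opensFunctor
  let T : ∀ n, Cochain (C.N M).presheaf U₀ n →+ Cochain M.presheaf D.U n := fun n =>
    tr (S := C.X₀.toPresheafedSpace.carrier) (T := X.toPresheafedSpace.carrier) Gf M.presheaf U₀ D.U
      (fun m x => inter_pullFam O C.h U₀ x) n
  obtain ⟨G, g, hG, hrepr⟩ := C.exists_repr M D₀
  haveI : G.IsQuasicoherent := hG.1
  -- the source is finite over the noetherian base
  haveI : IsLocallyNoetherian C.X₀ := LocallyOfFiniteType.isLocallyNoetherian C.f₀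
  have hRG : Coh.IsCoh ((Coh.Rpush C.f₀ d).obj G) := Groth.Agent.S0036.result C.f₀ G hG d
  haveI := hRG.1
  haveI := hRG.2
  haveI := QCoh.finite_sections_of_isFiniteType ((Coh.Rpush C.f₀ d).obj G) (isAffineOpen_top C.Y₀)
  haveI : Module.Finite Γ(C.Y₀, ⊤) ((D₀.K G).H₀ d) :=
    Module.Finite.equiv (CBC.rpushEquiv D₀ G (isAffineOpen_top C.Y₀) d).symm
  haveI : Module.Finite Γ(Y, V) ((D.K M).H₀ d) := by
    refine finite_H₀_of_cover (D.K M) (D₀.K G) (fun b => QCoh.rres (V.ι_image_top).ge (C.τ.app ⊤ b))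
      (fun n => AddMonoidHom.mk' (fun c => CBC.ofC (f.app V).hom D.U D.hU M (T n (cmap g.mapPresheaf U₀ n c)))
        fun c c' => (congrArg (T n) (map_add (cmap g.mapPresheaf U₀ n) c c')).trans (map_add (T n) _ _))
      (fun n c => ?_) d ?_ ?_
    · exact (cd_tr Gf M.presheaf U₀ D.U (fun m x => inter_pullFam O C.h U₀ x) n _).trans
        (congrArg (T (n + 1)) (cd_cmap g.mapPresheaf U₀ n c))
    · intro b c
      funext x
      refine Eq.trans ?_ (CBC.cx_smul_apply (f.app V).hom D.U D.hU M _ _ x).symm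
      refine (congrArg (fun t => CohAff.res M.presheaf (inter_pullFam O C.h U₀ x).le (g.app _ t))
        (CBC.cx_smul_apply (C.f₀.app ⊤).hom D₀.U D₀.hU G b c x)).trans ?_
      refine (congrArg (CohAff.res M.presheaf (inter_pullFam O C.h U₀ x).le)
        (Scheme.Modules.Hom.app_smul g _ _)).trans ?_
      refine (res_restrict_smul O M (inter_pullFam O C.h U₀ x).le _ _).trans ?_
      refine congrArg (fun t : Γ(X, _) => t • _) ?_
      refine (congrArg (QCoh.rres (inter_pullFam O C.h U₀ x).le) (C.app_h_base b _ _)).trans ?_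
      exact rres_scal _ _ _
    · intro z hz
      obtain ⟨z', hz'⟩ := (tr_bijective (S := C.X₀.toPresheafedSpace.carrier) (T := X.toPresheafedSpace.carrier)
        Gf M.presheaf U₀ D.U (fun m x => inter_pullFam O C.h U₀ x) d).2 (CBC.toC (f.app V).hom D.U D.hU M z)
      obtain ⟨r, a, c, rfl⟩ := hrepr z'
      have hc : cd (C.N M).presheaf U₀ d (∑ k, cmap (g ≫ C.ε M (a k)).mapPresheaf U₀ d (c k)) = 0 := by
        refine (tr_bijective (S := C.X₀.toPresheafedSpace.carrier) (T := X.toPresheafedSpace.carrier)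
          Gf M.presheaf U₀ D.U (fun m x => inter_pullFam O C.h U₀ x) (d + 1)).1 ?_
        refine Eq.trans ?_ (map_zero _).symm
        refine (cd_tr _ _ _ _ _ _ _).symm.trans ((congrArg (cd M.presheaf D.U d) hz').trans ?_)
        exact hz
      obtain ⟨w, hw, hwz⟩ := exists_cocycles hvan (fun k => g ≫ C.ε M (a k)) c hc
      refine ⟨r, a, w, hw, ?_⟩
      let oT : Cochain (C.N M).presheaf U₀ d →+ (D.K M).X d :=
        AddMonoidHom.mk' (fun c => CBC.ofC (f.app V).hom D.U D.hU M (T d c)) fun c c' => map_add (T d) c c'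
      have h1 : z = CBC.ofC (f.app V).hom D.U D.hU M
          (T d (∑ k, cmap (g ≫ C.ε M (a k)).mapPresheaf U₀ d (w k))) :=
        (congrArg (CBC.ofC (f.app V).hom D.U D.hU M) (hz'.symm.trans (congrArg (T d) hwz.symm)) :)
      refine (h1.trans (map_sum oT _ _)).trans (Finset.sum_congr rfl fun k _ => funext fun x => ?_)
      refine Eq.trans ?_ (CBC.cx_smul_apply (f.app V).hom D.U D.hU M (a k) _ x).symm
      refine (congrArg (CohAff.res M.presheaf (inter_pullFam O C.h U₀ x).le) (C.ε_app M (a k) _ _)).trans ?_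
      refine (res_restrict_smul O M (inter_pullFam O C.h U₀ x).le _ _).trans ?_
      exact congrArg (fun t : Γ(X, _) => t • _) (rres_scal _ _ _)
  exact Module.Finite.equiv (CBC.rpushEquiv D M hV d)

end Main

end Groth.Agent.VanQC
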