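import Groth.Agent.VanQC.Model

/-!
# Noetherian models with their closed immersion into the base change
-/

set_option autoImplicit false

universe u

open CategoryTheory Limits Opposite TopologicalSpace AlgebraicGeometry

namespace Groth.Agent.VanQC

/-- `f` over `V` is closed in the base change of a noetherian proper morphism with small fibres. -/
structure ClosedModel {X Y : Scheme.{u}} (f : X ⟶ Y) (V : Y.Opens) (d : ℕ) where
  X₀ : Scheme.{u}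
  Y₀ : Scheme.{u}
  f₀ : X₀ ⟶ Y₀
  affine : IsAffine Y₀
  noeth : IsNoetherian Y₀
  proper : IsProper f₀
  dim : ∀ z, topologicalKrullDim ↥(f₀.fiber z) ≤ d
  Q : Scheme.{u}
  τ : V.toScheme ⟶ Y₀
  q : Q ⟶ X₀
  r : Q ⟶ V.toScheme
  sq : IsPullback q r f₀ τ
  k : (f ⁻¹ᵁ V).toScheme ⟶ Q
  closed : IsClosedImmersion k
  k_r : k ≫ r = f ∣_ V

/-- Models exist near a point of an affine base. -/
theorem exists_closedModel_of_isAffine {X Y : Scheme.{u}} (f : X ⟶ Y) [IsProper f] [IsAffine Y] (y : Y) (d : ℕ)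
    (hd : topologicalKrullDim ↥(f.fiber y) ≤ d) :
    ∃ V : Y.Opens, IsAffineOpen V ∧ y ∈ V ∧ Nonempty (ClosedModel f V d) := by
  obtain ⟨X₁, i, f₁, hi, hf₁, hfp, hif, hpts⟩ := exists_fp_over f y
  haveI := hi; haveI := hf₁; haveI := hfp
  have hd₁ : topologicalKrullDim ↥(f₁.fiber y) ≤ d := by
    let m : (f ⁻¹' {y} : Set X) → (f₁ ⁻¹' {y} : Set X₁) := Set.codRestrict (fun x => i x.1) _
      fun x => by
        show f₁ (i x.1) = y
        rw [← Scheme.Hom.comp_apply, hif]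
        exact x.2
    have hm : IsHomeomorph m := isHomeomorph_iff_isEmbedding_surjective.mpr
      ⟨(i.isEmbedding.comp Topology.IsEmbedding.subtypeVal).codRestrict _ _, fun p => by
        obtain ⟨x, hx⟩ := hpts p.1 p.2
        have hxy : f x = y := by rw [← hif, Scheme.Hom.comp_apply, hx]; exact p.2
        exact ⟨⟨x, hxy⟩, Subtype.ext hx⟩⟩
    rw [(f₁.fiberHomeo y).isHomeomorph.topologicalKrullDim_eq, ← hm.topologicalKrullDim_eq,
      ← (f.fiberHomeo y).isHomeomorph.topologicalKrullDim_eq]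
    exact hd
  let A := Γ(Y, ⊤)
  letI : Algebra (ULift.{u} ℤ) A := ((Int.castRingHom A).comp ULift.ringEquiv.toRingHom).toAlgebra
  let f₂ : X₁ ⟶ Spec (CommRingCat.of A) := f₁ ≫ Y.isoSpec.hom
  haveI : IsProper f₂ := inferInstanceAs (IsProper (f₁ ≫ Y.isoSpec.hom))
  haveI : LocallyOfFinitePresentation f₂ :=
    inferInstanceAs (LocallyOfFinitePresentation (f₁ ≫ Y.isoSpec.hom))
  haveI : CompactSpace X₁ := QuasiCompact.compactSpace_of_compactSpace f₁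
  haveI : QuasiSeparatedSpace X₁ := quasiSeparatedSpace_of_quasiSeparated f₁
  let c := LimLib.fgCone (ULift.{u} ℤ) A
  haveI : @LocallyOfFinitePresentation X₁ c.pt f₂ := ‹LocallyOfFinitePresentation f₂›
  haveI : @IsProper X₁ c.pt f₂ := ‹IsProper f₂›
  obtain ⟨s, X₂, g₂, q₂, h₁, h₂, h₃, h⟩ := LimLib.hasModel (LimLib.isLimitFgCone (ULift.{u} ℤ) A) (X := X₁) f₂
  haveI := h₁; haveI := h₂; haveI := h₃
  obtain ⟨j, φ, hj⟩ := LimLib.descends_isProper (LimLib.fgDiagram (ULift.{u} ℤ) A) c (LimLib.isLimitFgCone (ULift.{u} ℤ) A)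
    (fun _ _ _ => inferInstance) (fun _ => inferInstance) (fun _ => inferInstance) s X₂ g₂ h₂ h₃
    inferInstance X₁ q₂ f₂ h inferInstance
  obtain ⟨-, -, -, hsq⟩ := LimLib.HasModel.at_finer (c := c) (f := f₂) (g := q₂) h₁ h₂ h₃ h φ
  let Xj := pullback g₂ ((LimLib.fgDiagram (ULift.{u} ℤ) A).map φ)
  let fj : Xj ⟶ (LimLib.fgDiagram (ULift.{u} ℤ) A).obj j := pullback.snd _ _
  haveI : IsProper fj := hj
  let τ : Y ⟶ (LimLib.fgDiagram (ULift.{u} ℤ) A).obj j := Y.isoSpec.hom ≫ c.π.app j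
  haveI : IsNoetherianRing (Algebra.adjoin (ULift.{u} ℤ) (j.unop : Set A)) := by
    haveI : IsNoetherianRing (ULift.{u} ℤ) := isNoetherianRing_of_ringEquiv ℤ ULift.ringEquiv.symm
    haveI : Algebra.FiniteType (ULift.{u} ℤ) (Algebra.adjoin (ULift.{u} ℤ) (j.unop : Set A)) :=
      (Subalgebra.fg_iff_finiteType _).mp ⟨j.unop, rfl⟩
    exact Algebra.FiniteType.isNoetherianRing (ULift.{u} ℤ) _
  haveI : IsNoetherian ((LimLib.fgDiagram (ULift.{u} ℤ) A).obj j) :=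
    inferInstanceAs (IsNoetherian (Spec (CommRingCat.of (Algebra.adjoin (ULift.{u} ℤ) (j.unop : Set A)))))
  -- the square over `Y`
  obtain ⟨kj, hpb⟩ : ∃ kj : X₁ ⟶ Xj, IsPullback kj f₁ fj τ :=
    ⟨_, hsq.of_iso (Iso.refl _) (Iso.refl _) Y.isoSpec.symm (Iso.refl _)
      ((Category.comp_id _).trans (Category.id_comp _).symm)
      ((Category.assoc _ _ _).trans ((congrArg (f₁ ≫ ·) Y.isoSpec.hom_inv_id).trans
        ((Category.comp_id _).trans (Category.id_comp _).symm)))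
      ((Category.comp_id _).trans (Category.id_comp _).symm)
      ((Category.comp_id _).trans (Y.isoSpec.inv_hom_id_assoc _).symm)⟩
  haveI : IsAffineHom τ := inferInstance
  haveI : IsAffineHom kj := MorphismProperty.of_isPullback hpb.flip ‹IsAffineHom τ›
  have hy₀ : topologicalKrullDim ↥(fj.fiber (τ y)) ≤ d :=
    (Groth.Agent.S9777.result fj τ f₁ kj hpb y).symm.trans_le hd₁
  obtain ⟨_, ⟨V₀, hV₀, rfl⟩, hyV₀, hle⟩ :=
    ((LimLib.fgDiagram (ULift.{u} ℤ) A).obj j).isBasis_affineOpens.exists_subset_of_mem_open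
      (show τ y ∈ {z | topologicalKrullDim ↥(fj.fiber z) ≤ d} from hy₀)
      (Groth.Agent.S0403.result fj d)
  let V := τ ⁻¹ᵁ V₀
  have eO : f₁ ⁻¹ᵁ V = kj ⁻¹ᵁ (fj ⁻¹ᵁ V₀) := by
    rw [← Scheme.Hom.comp_preimage, ← Scheme.Hom.comp_preimage, hpb.w]
  have eX : i ⁻¹ᵁ (f₁ ⁻¹ᵁ V) = f ⁻¹ᵁ V := by
    rw [← Scheme.Hom.comp_preimage, hif]
  haveI : IsAffine (Scheme.Opens.toScheme V₀) := hV₀
  haveI : IsLocallyNoetherian (Scheme.Opens.toScheme V₀) :=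
    LocallyOfFiniteType.isLocallyNoetherian (Scheme.Opens.ι V₀)
  have hsq' := Scheme.Hom.isPullback_resLE hpb (show V ≤ τ ⁻¹ᵁ V₀ from le_rfl)
    (show fj ⁻¹ᵁ V₀ ≤ fj ⁻¹ᵁ V₀ from le_rfl)
    (show f₁ ⁻¹ᵁ V = kj ⁻¹ᵁ (fj ⁻¹ᵁ V₀) ⊓ f₁ ⁻¹ᵁ V from (inf_eq_right.mpr eO.le).symm)
  refine ⟨V, hV₀.preimage τ, hyV₀, ⟨{
    X₀ := (fj ⁻¹ᵁ V₀).toScheme
    Y₀ := Scheme.Opens.toScheme V₀
    f₀ := fj.resLE V₀ (fj ⁻¹ᵁ V₀) le_rfl
    affine := inferInstance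
    noeth := { }
    proper := ?_
    dim := fun z => ?_
    Q := (f₁ ⁻¹ᵁ V).toScheme
    τ := τ.resLE V₀ V le_rfl
    q := _
    r := _
    sq := hsq'
    k := i.resLE (f₁ ⁻¹ᵁ V) (f ⁻¹ᵁ V) eX.ge
    closed := ?_
    k_r := ?_ }⟩⟩
  · rw [Scheme.Hom.resLE_eq_morphismRestrict]
    infer_instance
  · rw [Scheme.Hom.resLE_eq_morphismRestrict, dim_fiber_restrict]
    exact hle z.2
  · have key : ∀ (O : X.Opens) (e : O = i ⁻¹ᵁ (f₁ ⁻¹ᵁ V)),
        IsClosedImmersion (i.resLE (f₁ ⁻¹ᵁ V) O e.le) := by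
      rintro O rfl
      rw [Scheme.Hom.resLE_eq_morphismRestrict]
      exact IsZariskiLocalAtTarget.restrict hi _
    exact key _ eX.symm
  · rw [Scheme.Hom.resLE_comp_resLE]
    have key : ∀ (k : X ⟶ Y) (e : f ⁻¹ᵁ V ≤ k ⁻¹ᵁ V), k = f → k.resLE V (f ⁻¹ᵁ V) e = f ∣_ V := by
      rintro k e rfl
      exact Scheme.Hom.resLE_eq_morphismRestrict k
    exact key _ _ hif

/-- Models exist near every point. -/
theorem exists_closedModel {X Y : Scheme.{u}} (f : X ⟶ Y) [IsProper f] (y : Y) (d : ℕ)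
    (hd : topologicalKrullDim ↥(f.fiber y) ≤ d) :
    ∃ V : Y.Opens, IsAffineOpen V ∧ y ∈ V ∧ Nonempty (ClosedModel f V d) := by
  obtain ⟨V₁, hV₁, hy, -⟩ := exists_isAffineOpen_mem_and_subset (U := (⊤ : Y.Opens)) (Opens.mem_top y)
  haveI : IsAffine V₁.toScheme := hV₁
  obtain ⟨V', hV', hy', ⟨M⟩⟩ :=
    exists_closedModel_of_isAffine (f ∣_ V₁) ⟨y, hy⟩ d ((dim_fiber_restrict f V₁ _).trans_le hd)
  let eV := Scheme.Hom.isoImage V₁.ι V'
  let eX : (f ⁻¹ᵁ (V₁.ι ''ᵁ V')).toScheme ≅ ((f ∣_ V₁) ⁻¹ᵁ V').toScheme :=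
    X.isoOfEq (image_morphismRestrict_preimage f V₁ V').symm ≪≫
      (Scheme.Hom.isoImage (f ⁻¹ᵁ V₁).ι ((f ∣_ V₁) ⁻¹ᵁ V')).symm
  haveI := M.closed
  refine ⟨V₁.ι ''ᵁ V', hV'.image_of_isOpenImmersion V₁.ι, ⟨⟨y, hy⟩, hy', rfl⟩, ⟨{
    X₀ := M.X₀
    Y₀ := M.Y₀
    f₀ := M.f₀
    affine := M.affine
    noeth := M.noeth
    proper := M.proper
    dim := M.dim
    Q := M.Q
    τ := eV.inv ≫ M.τ
    q := M.q
    r := M.r ≫ eV.hom
    sq := M.sq.of_iso (Iso.refl _) (Iso.refl _) eV (Iso.refl _) (by simp) (by simp) (by simp) (by simp)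
    k := eX.hom ≫ M.k
    closed := inferInstance
    k_r := ?_ }⟩⟩
  rw [Category.assoc, reassoc_of% M.k_r, ← cancel_mono (V₁.ι ''ᵁ V').ι]
  simp [eX, eV, morphismRestrict_ι, morphismRestrict_ι_assoc]

end Groth.Agent.VanQC
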